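import Mathlib.LinearAlgebra.TensorProduct.Quotient
import Mathlib.RingTheory.TensorProduct.Finite
import Mathlib.Algebra.Module.Projective
import Mathlib.RingTheory.TensorProduct.Free
import Mathlib.Algebra.Module.Torsion.Basic
import Mathlib.RingTheory.Ideal.Quotient.Operations
import Mathlib.LinearAlgebra.StdBasis
import Mathlib.RingTheory.Finiteness.Cardinality
import Mathlib.RingTheory.Finiteness.Basic

/-!
Finite projective modules over a ring complete for a filtration by ideals.
-/

set_option autoImplicit false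
set_option linter.style.haveILetI false
universe u v

open scoped TensorProduct

namespace Groth.Agent.FiltProj

variable {W : Type u} [CommRing W]

theorem mem_smul_top_pi {k : ℕ} (J : Ideal W) (z : Fin k → W) :
    z ∈ (J • ⊤ : Submodule W (Fin k → W)) ↔ ∀ i, z i ∈ J := by
  refine ⟨fun hz i => ?_, fun hz => ?_⟩
  · have h := Submodule.mem_map_of_mem (f := (LinearMap.proj i : (Fin k → W) →ₗ[W] W)) hz
    rw [Submodule.map_smul''] at h
    refine (Submodule.smul_le.2 (fun a ha b _ => ?_) : _ ≤ J) h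
    exact J.mul_mem_right b ha
  · rw [← Finset.univ_sum_single z]
    refine Submodule.sum_mem _ fun i _ => ?_
    have : Pi.single i (z i) = z i • (Pi.single i (1 : W) : Fin k → W) := by
      rw [← Pi.single_smul, smul_eq_mul, mul_one]
    rw [this]
    exact Submodule.smul_mem_smul (hz i) Submodule.mem_top

/-- forward direction -/
theorem quot_finite_projective (I : Ideal W) (P : Type v) [AddCommGroup P] [Module W P] [Module.Finite W P]
    [Module.Projective W P] :
    Module.Finite (W ⧸ I) (P ⧸ (I • ⊤ : Submodule W P)) ∧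
      Module.Projective (W ⧸ I) (P ⧸ (I • ⊤ : Submodule W P)) := by
  let e' := LinearEquiv.extendScalarsOfSurjective (S := W ⧸ I) (R := W) Ideal.Quotient.mk_surjective
    (TensorProduct.quotTensorEquivQuotSMul P I)
  exact ⟨Module.Finite.equiv e', Module.Projective.of_equiv e'⟩

theorem sep_of_projective (I : ℕ → Ideal W) (hsep : ∀ w : W, (∀ n, w ∈ I n) → w = 0) (P : Type v) [AddCommGroup P]
    [Module W P] [Module.Finite W P] [Module.Projective W P] :
    (⨅ n, (I n • ⊤ : Submodule W P)) = ⊥ := by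
  obtain ⟨k, F, hF⟩ := Module.Finite.exists_fin' W P
  obtain ⟨s, hs⟩ := Module.projective_lifting_property F LinearMap.id hF
  rw [eq_bot_iff]
  intro x hx
  rw [Submodule.mem_iInf] at hx
  have hz : s x = 0 := funext fun i => hsep _ fun n => by
    have h := Submodule.mem_map_of_mem (f := s) (hx n)
    rw [Submodule.map_smul''] at h
    exact (mem_smul_top_pi (I n) (s x)).1 (Submodule.smul_mono le_rfl le_top h) i
  have := LinearMap.congr_fun hs x
  rw [LinearMap.comp_apply, hz, map_zero, LinearMap.id_apply] at this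
  exact this.symm

/-- lifting against a surjection of modules killed by `I` -/
theorem exists_lift (I : Ideal W) {P : Type v} [AddCommGroup P] [Module W P]
    [Module.Projective (W ⧸ I) (P ⧸ (I • ⊤ : Submodule W P))] {M : Type u} [AddCommGroup M] [Module W M]
    {T : Type (max u v)} [AddCommGroup T] [Module W T] (θ : (M ⧸ (I • ⊤ : Submodule W M)) →ₗ[W] T)
    (hθ : Function.Surjective θ) (g : (P ⧸ (I • ⊤ : Submodule W P)) →ₗ[W] T) :
    ∃ l : (P ⧸ (I • ⊤ : Submodule W P)) →ₗ[W] (M ⧸ (I • ⊤ : Submodule W M)), θ ∘ₗ l = g := by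
  have hT : Module.IsTorsionBySet W T (I : Set W) := by
    intro x a
    obtain ⟨y, rfl⟩ := hθ x
    obtain ⟨y, rfl⟩ := Submodule.Quotient.mk_surjective _ y
    have : (a : W) • (Submodule.Quotient.mk y : M ⧸ (I • ⊤ : Submodule W M)) = 0 := by
      rw [← Submodule.Quotient.mk_smul, Submodule.Quotient.mk_eq_zero]
      exact Submodule.smul_mem_smul a.2 Submodule.mem_top
    rw [← map_smul, this, map_zero]
  letI : Module (W ⧸ I) T := hT.module
  haveI : IsScalarTower W (W ⧸ I) T := hT.isScalarTower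
  have hs : Function.Surjective (algebraMap W (W ⧸ I)) := Ideal.Quotient.mk_surjective
  obtain ⟨l, hl⟩ := Module.projective_lifting_property (LinearMap.extendScalarsOfSurjective hs θ)
    (LinearMap.extendScalarsOfSurjective hs g) hθ
  exact ⟨l.restrictScalars W, LinearMap.ext fun x => LinearMap.congr_fun hl x⟩

/-- converse direction -/
theorem finite_projective_of_filtration (I : ℕ → Ideal W) (hI0 : ∀ w, w ∈ I 0) (hmono : Antitone I)
    (hpow : ∀ n, ∃ m, (I 1) ^ m ≤ I n) (hsep : ∀ w : W, (∀ n, w ∈ I n) → w = 0)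
    (hcomp : ∀ a : ℕ → W, (∀ n, a (n + 1) - a n ∈ I n) → ∃ w, ∀ n, w - a n ∈ I n)
    (P : Type v) [AddCommGroup P] [Module W P]
    (hP : (⨅ n, (I n • ⊤ : Submodule W P)) = ⊥)
    (hn : ∀ n, Module.Finite (W ⧸ I n) (P ⧸ (I n • ⊤ : Submodule W P)) ∧
      Module.Projective (W ⧸ I n) (P ⧸ (I n • ⊤ : Submodule W P))) :
    Module.Finite W P ∧ Module.Projective W P := by
  classical
  have hfin1 := (hn 1).1
  haveI : Module.Finite W (P ⧸ (I 1 • ⊤ : Submodule W P)) := Module.Finite.trans (W ⧸ I 1) _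
  obtain ⟨k, gbar, hgbar⟩ := Module.Finite.exists_fin (R := W) (M := P ⧸ (I 1 • ⊤ : Submodule W P))
  choose g hg using fun i => (I 1 • ⊤ : Submodule W P).mkQ_surjective (gbar i)
  let F : (Fin k → W) →ₗ[W] P := Fintype.linearCombination W g
  have hF1 : LinearMap.range F ⊔ (I 1 • ⊤ : Submodule W P) = ⊤ := by
    have h1 : (LinearMap.range F).map (I 1 • ⊤ : Submodule W P).mkQ = ⊤ := by
      rw [Fintype.range_linearCombination, Submodule.map_span, ← Set.range_comp,
        show (I 1 • ⊤ : Submodule W P).mkQ ∘ g = gbar from funext hg, hgbar]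
    rw [sup_comm, ← Submodule.comap_map_mkQ, h1, Submodule.comap_top]
  have hFm : ∀ m, LinearMap.range F ⊔ ((I 1) ^ m • ⊤ : Submodule W P) = ⊤ := by
    intro m
    induction m with
    | zero => rw [pow_zero, Ideal.one_eq_top, Submodule.top_smul, sup_top_eq]
    | succ m ih =>
      refine top_le_iff.1 ?_
      calc (⊤ : Submodule W P) = LinearMap.range F ⊔ I 1 • ⊤ := hF1.symm
        _ = LinearMap.range F ⊔ I 1 • (LinearMap.range F ⊔ ((I 1) ^ m • ⊤ : Submodule W P)) := by rw [ih]
        _ ≤ _ := by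
          rw [Submodule.smul_sup, ← Submodule.mul_smul, ← pow_succ']
          exact sup_le le_sup_left (sup_le (Submodule.smul_le_right.trans le_sup_left) le_sup_right)
  have hFn : ∀ n, LinearMap.range F ⊔ (I n • ⊤ : Submodule W P) = ⊤ := fun n => by
    obtain ⟨m, hm⟩ := hpow n
    exact top_le_iff.1 ((hFm m).ge.trans (sup_le_sup_left (Submodule.smul_mono_left hm) _))
  let MQ : ℕ → Submodule W (Fin k → W) := fun n => I n • ⊤
  let MP : ℕ → Submodule W P := fun n => I n • ⊤
  have hFb : ∀ n, MQ n ≤ (MP n).comap F := fun n => by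
    rw [← Submodule.map_le_iff_le_comap, Submodule.map_smul'']
    exact Submodule.smul_mono le_rfl le_top
  let Fb : ∀ n, ((Fin k → W) ⧸ MQ n) →ₗ[W] (P ⧸ MP n) := fun n => Submodule.mapQ _ _ F (hFb n)
  let πQ : ∀ n, ((Fin k → W) ⧸ MQ (n + 1)) →ₗ[W] ((Fin k → W) ⧸ MQ n) := fun n =>
    Submodule.mapQ _ _ LinearMap.id (Submodule.smul_mono_left (hmono (Nat.le_succ n)))
  let πP : ∀ n, (P ⧸ MP (n + 1)) →ₗ[W] (P ⧸ MP n) := fun n =>
    Submodule.mapQ _ _ LinearMap.id (Submodule.smul_mono_left (hmono (Nat.le_succ n)))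
  -- compatible sections
  have hstep : ∀ (n : ℕ) (s : (P ⧸ MP n) →ₗ[W] ((Fin k → W) ⧸ MQ n)), Fb n ∘ₗ s = LinearMap.id →
      ∃ s' : (P ⧸ MP (n + 1)) →ₗ[W] ((Fin k → W) ⧸ MQ (n + 1)),
        Fb (n + 1) ∘ₗ s' = LinearMap.id ∧ πQ n ∘ₗ s' = s ∘ₗ πP n := by
    intro n s hs
    let T : Submodule W ((P ⧸ MP (n + 1)) × ((Fin k → W) ⧸ MQ n)) :=
      LinearMap.ker (Fb n ∘ₗ LinearMap.snd W _ _ - πP n ∘ₗ LinearMap.fst W _ _)
    let θ : ((Fin k → W) ⧸ MQ (n + 1)) →ₗ[W] T := ((Fb (n + 1)).prod (πQ n)).codRestrict T fun z => by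
      obtain ⟨z, rfl⟩ := Submodule.Quotient.mk_surjective _ z
      rw [LinearMap.mem_ker, LinearMap.sub_apply, sub_eq_zero]
      rfl
    have hθ : Function.Surjective θ := by
      rintro ⟨⟨x, y⟩, hxy⟩
      rw [LinearMap.mem_ker, LinearMap.sub_apply, sub_eq_zero] at hxy
      obtain ⟨b, rfl⟩ := Submodule.Quotient.mk_surjective _ x
      obtain ⟨a, rfl⟩ := Submodule.Quotient.mk_surjective _ y
      have hd : F a - b ∈ MP n := (Submodule.Quotient.eq _).1 hxy
      have hle : MP n ≤ (MQ n).map F ⊔ MP (n + 1) := by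
        rw [Submodule.map_smul'', Submodule.map_top]
        calc MP n = I n • (LinearMap.range F ⊔ MP (n + 1)) := by rw [hFn (n + 1)]
          _ ≤ _ := by rw [Submodule.smul_sup]; exact sup_le_sup_left Submodule.smul_le_right _
      obtain ⟨u, ⟨w, hw, rfl⟩, q, hq, huq⟩ := Submodule.mem_sup.1 (hle hd)
      refine ⟨Submodule.Quotient.mk (a - w), Subtype.ext (Prod.ext ((Submodule.Quotient.eq _).2 ?_) ((Submodule.Quotient.eq _).2 ?_))⟩
      · have : F (a - w) - b = q := by
          rw [map_sub, sub_right_comm, ← huq, add_sub_cancel_left]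
        rw [this]
        exact hq
      · rw [LinearMap.id_apply, sub_sub_cancel_left]
        exact neg_mem hw
    haveI := (hn (n + 1)).2
    obtain ⟨l, hl⟩ := exists_lift (I (n + 1)) (M := Fin k → W) θ hθ
      ((LinearMap.id.prod (s ∘ₗ πP n)).codRestrict T fun x => by
        rw [LinearMap.mem_ker, LinearMap.sub_apply, sub_eq_zero]
        exact LinearMap.congr_fun hs (πP n x))
    exact ⟨l, LinearMap.ext fun x => congrArg (fun t : T => t.1.1) (LinearMap.congr_fun hl x),
      LinearMap.ext fun x => congrArg (fun t : T => t.1.2) (LinearMap.congr_fun hl x)⟩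
  have hzero : ∀ z : P ⧸ MP 0, z = 0 := fun z => by
    obtain ⟨z, rfl⟩ := Submodule.Quotient.mk_surjective _ z
    rw [Submodule.Quotient.mk_eq_zero]
    have := Submodule.smul_mem_smul (hI0 1) (Submodule.mem_top (x := z) (R := W))
    rwa [one_smul] at this
  let sec : ∀ n, {s : (P ⧸ MP n) →ₗ[W] ((Fin k → W) ⧸ MQ n) // Fb n ∘ₗ s = LinearMap.id} := fun n => by
    induction n with
    | zero => exact ⟨0, LinearMap.ext fun z => (hzero _).trans (hzero _).symm⟩
    | succ n ih => exact ⟨(hstep n ih.1 ih.2).choose, (hstep n ih.1 ih.2).choose_spec.1⟩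
  have hsec : ∀ n, πQ n ∘ₗ (sec (n + 1)).1 = (sec n).1 ∘ₗ πP n := fun n =>
    (hstep n (sec n).1 (sec n).2).choose_spec.2
  -- the limit
  have hlim : ∀ x : P, ∃ z : Fin k → W, ∀ n, Submodule.Quotient.mk z = (sec n).1 (Submodule.Quotient.mk x) := by
    intro x
    choose a ha using fun n => Submodule.Quotient.mk_surjective _ ((sec n).1 (Submodule.Quotient.mk x))
    have hc : ∀ n, a (n + 1) - a n ∈ MQ n := fun n => by
      have h1 := LinearMap.congr_fun (hsec n) (Submodule.Quotient.mk x)
      rw [LinearMap.comp_apply, ← ha (n + 1), LinearMap.comp_apply] at h1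
      exact (Submodule.Quotient.eq _).1 (h1.trans (ha n).symm)
    choose z hz using fun i => hcomp (fun n => a n i) fun n => (mem_smul_top_pi _ _).1 (hc n) i
    exact ⟨z, fun n => ((Submodule.Quotient.eq _).2 ((mem_smul_top_pi _ _).2 fun i => hz i n)).trans (ha n)⟩
  choose σ hσ using hlim
  have huniq : ∀ z z' : Fin k → W, (∀ n, (Submodule.Quotient.mk z : (Fin k → W) ⧸ MQ n) = Submodule.Quotient.mk z') → z = z' :=
    fun z z' h => funext fun i => sub_eq_zero.1 (hsep _ fun n =>
      (mem_smul_top_pi _ _).1 ((Submodule.Quotient.eq _).1 (h n)) i)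
  let S : P →ₗ[W] (Fin k → W) :=
    { toFun := σ
      map_add' := fun x y => huniq _ _ fun n => by
        rw [Submodule.Quotient.mk_add, hσ, hσ, hσ, Submodule.Quotient.mk_add, map_add]
      map_smul' := fun c x => huniq _ _ fun n => by
        rw [RingHom.id_apply, Submodule.Quotient.mk_smul, hσ, hσ, Submodule.Quotient.mk_smul, map_smul] }
  have hFS : F ∘ₗ S = LinearMap.id := LinearMap.ext fun x => by
    rw [LinearMap.comp_apply, LinearMap.id_apply, ← sub_eq_zero, ← Submodule.mem_bot W, ← hP, Submodule.mem_iInf]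
    intro n
    refine (Submodule.Quotient.eq _).1 ?_
    change Fb n (Submodule.Quotient.mk (σ x)) = _
    rw [hσ]
    exact LinearMap.congr_fun (sec n).2 _
  exact ⟨Module.Finite.of_surjective F fun x => ⟨S x, LinearMap.congr_fun hFS x⟩,
    Module.Projective.of_split S F hFS⟩

end Groth.Agent.FiltProj
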